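import Mathlib
import Groth.Prelude.Def_HTop2

/-!
# The conductor of a seminormal ring in a reduced overring
-/

set_option autoImplicit false
set_option linter.all false

universe u

open scoped TensorProduct

namespace GrothLib.SemiCond2

variable (A B : Type u) [CommRing A] [CommRing B] [Algebra A B]

/-- The conductor of `A` in `B`. -/
def cond : Ideal A where
  carrier := {a | ∀ b : B, algebraMap A B a * b ∈ (algebraMap A B).range}
  add_mem' := fun h h' b => by rw [map_add, add_mul]; exact add_mem (h b) (h' b)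
  zero_mem' := fun b => by rw [map_zero, zero_mul]; exact zero_mem _
  smul_mem' := fun c a h b => by
    rw [smul_eq_mul, map_mul, mul_assoc]
    exact mul_mem ⟨c, rfl⟩ (h b)

variable {A B}

theorem mem_cond {a : A} : a ∈ cond A B ↔ ∀ b : B, algebraMap A B a * b ∈ (algebraMap A B).range := Iff.rfl

theorem mem_range_of_sq_cube [IsReduced B] (hinj : Function.Injective (algebraMap A B))
    (hA : HTop.IsSeminormalRing A) {y : B} (h2 : y ^ 2 ∈ (algebraMap A B).range)
    (h3 : y ^ 3 ∈ (algebraMap A B).range) : y ∈ (algebraMap A B).range := by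
  obtain ⟨u, hu⟩ := h2
  obtain ⟨v, hv⟩ := h3
  obtain ⟨a, ⟨ha2, ha3⟩, -⟩ := hA u v (hinj (by rw [map_pow, map_pow, hu, hv]; ring))
  refine ⟨a, ?_⟩
  have e2 : algebraMap A B a ^ 2 = y ^ 2 := by rw [← map_pow, ← ha2, hu]
  have e3 : algebraMap A B a ^ 3 = y ^ 3 := by rw [← map_pow, ← ha3, hv]
  have : IsNilpotent (algebraMap A B a - y) := ⟨3, by
    linear_combination 4 * e3 + (-3 * y - 3 * algebraMap A B a) * e2⟩
  exact sub_eq_zero.1 this.eq_zero

theorem isRadical_cond [IsReduced B] (hinj : Function.Injective (algebraMap A B))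
    (hA : HTop.IsSeminormalRing A) : (cond A B).IsRadical := by
  refine (Ideal.isRadical_iff_pow_one_lt 2 one_lt_two).2 fun a ha b => ?_
  refine mem_range_of_sq_cube hinj hA ?_ ?_
  · have := mem_cond.1 ha (b ^ 2)
    rwa [map_pow, ← mul_pow] at this
  · have := mul_mem (⟨1, rfl⟩ : algebraMap A B 1 ∈ (algebraMap A B).range)
      (mem_cond.1 ha (algebraMap A B a * b ^ 3))
    rw [map_one, one_mul, map_pow] at this
    convert this using 1
    ring

theorem exists_of_mem_map (hinj : Function.Injective (algebraMap A B)) {J : Ideal A} (hJ : J.IsRadical)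
    (hle : J ≤ cond A B) {y : B} (hy : y ∈ J.map (algebraMap A B)) :
    ∃ j ∈ J, algebraMap A B j = y := by
  induction hy using Submodule.span_induction with
  | mem x hx => obtain ⟨j, hj, rfl⟩ := hx; exact ⟨j, hj, rfl⟩
  | zero => exact ⟨0, zero_mem _, map_zero _⟩
  | add x z _ _ h h' =>
    obtain ⟨j, hj, rfl⟩ := h
    obtain ⟨k, hk, rfl⟩ := h'
    exact ⟨j + k, add_mem hj hk, map_add _ _ _⟩
  | smul b x _ h =>
    obtain ⟨j, hj, rfl⟩ := h
    obtain ⟨x, hx⟩ := mem_cond.1 (hle hj) b
    obtain ⟨z, hz⟩ := mem_cond.1 (hle hj) (b ^ 2)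
    refine ⟨x, hJ ⟨2, ?_⟩, by rw [hx, smul_eq_mul, mul_comm]⟩
    have : x ^ 2 = j * z := hinj (by rw [map_pow, map_mul, hx, hz]; ring)
    rw [this]
    exact J.mul_mem_right _ hj

theorem isRadical_map [IsReduced B] (hinj : Function.Injective (algebraMap A B))
    (hA : HTop.IsSeminormalRing A) {J : Ideal A} (hJ : J.IsRadical) (hle : J ≤ cond A B) :
    (J.map (algebraMap A B)).IsRadical := by
  refine (Ideal.isRadical_iff_pow_one_lt 2 one_lt_two).2 fun y hy => ?_
  obtain ⟨j, hj, hjy⟩ := exists_of_mem_map hinj hJ hle hy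
  obtain ⟨a, rfl⟩ := mem_range_of_sq_cube hinj hA ⟨j, hjy⟩ (by
    rw [pow_succ, ← hjy]; exact mem_cond.1 (hle hj) y)
  refine Ideal.mem_map_of_mem _ (hJ ⟨2, ?_⟩)
  have : j = a ^ 2 := hinj (by rw [hjy, map_pow])
  rwa [← this]

variable [Module.Finite A B]

/-- If every element of the finite algebra has a multiplier outside a prime into `A`, then the
conductor is not contained in that prime. -/
theorem exists_mem_cond (S : Submonoid A)
    (h : ∀ b : B, ∃ s ∈ S, algebraMap A B s * b ∈ (algebraMap A B).range) :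
    ∃ s ∈ S, s ∈ cond A B := by
  obtain ⟨G, hG⟩ := Module.finite_def.1 (inferInstance : Module.Finite A B)
  choose s hs hsb using h
  refine ⟨∏ x ∈ G, s x, prod_mem fun x _ => hs x, fun b => ?_⟩
  have hb : b ∈ Submodule.span A (G : Set B) := hG ▸ trivial
  induction hb using Submodule.span_induction with
  | mem x hx =>
    classical
    rw [← Finset.mul_prod_erase G s (Finset.mem_coe.1 hx), map_mul, mul_comm (algebraMap A B (s x)),
      mul_assoc]
    exact mul_mem ⟨_, rfl⟩ (hsb x)
  | zero => rw [mul_zero]; exact zero_mem _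
  | add x y _ _ h h' => rw [mul_add]; exact add_mem h h'
  | smul a x _ h =>
    rw [Algebra.smul_def, mul_left_comm]
    exact mul_mem ⟨a, rfl⟩ h

/-- Where `A` is a normal domain, the conductor is the unit ideal. -/
theorem not_cond_le [IsReduced B] (hinj : Function.Injective (algebraMap A B)) (t : A)
    (htB : ∀ y : B, algebraMap A B t * y = 0 → y = 0)
    (ht : ∀ b : B, ∃ n : ℕ, algebraMap A B (t ^ n) * b ∈ (algebraMap A B).range)
    (p : Ideal A) [p.IsPrime] [IsDomain (Localization.AtPrime p)]
    [IsIntegrallyClosed (Localization.AtPrime p)] : ¬ cond A B ≤ p := by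
  let Ap := Localization.AtPrime p
  let K := FractionRing Ap
  have htA : ∀ a : A, t * a = 0 → a = 0 := fun a h =>
    hinj ((htB _ (by rw [← map_mul, h, map_zero])).trans (map_zero _).symm)
  have htp : algebraMap A Ap t ≠ 0 := fun h => by
    obtain ⟨⟨m, hm⟩, hm0⟩ := (IsLocalization.map_eq_zero_iff p.primeCompl Ap t).1 h
    exact hm (by rw [htA m (by rw [mul_comm]; exact hm0)]; exact zero_mem _)
  have key : ∀ b : B, ∃ s ∈ p.primeCompl, algebraMap A B s * b ∈ (algebraMap A B).range := by
    intro b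
    obtain ⟨n, a, ha⟩ := ht b
    obtain ⟨P, hPm, hPb⟩ := Algebra.IsIntegral.isIntegral (R := A) b
    let f : A →+* K := algebraMap A K
    have hfap : ∀ x, f x = algebraMap Ap K (algebraMap A Ap x) :=
      fun x => IsScalarTower.algebraMap_apply A Ap K x
    have hft : f (t ^ n) ≠ 0 := by
      rw [map_pow]
      refine pow_ne_zero _ ?_
      rw [hfap, Ne, IsFractionRing.to_map_eq_zero_iff]
      exact htp
    have h0 : Polynomial.eval a (P.scaleRoots (t ^ n)) = 0 := by
      apply hinj
      rw [map_zero, ← Polynomial.eval₂_at_apply, ha, Polynomial.scaleRoots_eval₂_mul, hPb, mul_zero]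
    let k : K := f a / f (t ^ n)
    have hk : Polynomial.eval₂ f k P = 0 := by
      have := congrArg f h0
      rw [map_zero, ← Polynomial.eval₂_at_apply,
        show f a = f (t ^ n) * k from (mul_div_cancel₀ _ hft).symm,
        Polynomial.scaleRoots_eval₂_mul, mul_eq_zero] at this
      exact this.resolve_left (pow_ne_zero _ hft)
    have hint : IsIntegral Ap k := IsIntegral.tower_top (R := A) ⟨P, hPm, hk⟩
    obtain ⟨z, hz⟩ := IsIntegrallyClosed.isIntegral_iff.1 hint
    obtain ⟨a', ⟨s, hs⟩, rfl⟩ := IsLocalization.exists_mk'_eq p.primeCompl z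
    have e : algebraMap A Ap (a * s) = algebraMap A Ap (t ^ n * a') := by
      apply IsFractionRing.injective Ap K
      rw [← hfap, ← hfap, map_mul, map_mul, show f a = f (t ^ n) * k from (mul_div_cancel₀ _ hft).symm,
        ← hz, hfap s, mul_assoc, ← map_mul, IsLocalization.mk'_spec, ← hfap]
    obtain ⟨⟨m, hm⟩, hme⟩ := (IsLocalization.eq_iff_exists p.primeCompl Ap).1 e
    refine ⟨m * s, mul_mem hm hs, ⟨m * a', ?_⟩⟩
    have h1 := congrArg (algebraMap A B) hme
    simp only [map_mul, ha] at h1
    have h2 : ∀ (j : ℕ) (y : B), algebraMap A B (t ^ j) * y = 0 → y = 0 := by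
      intro j
      induction j with
      | zero => intro y h; simpa using h
      | succ j ih =>
        intro y h
        refine htB _ (ih _ ?_)
        rw [← h, pow_succ, map_mul, mul_assoc]
    refine (sub_eq_zero.1 (h2 n _ ?_)).symm
    simp only [map_mul]
    linear_combination h1
  obtain ⟨s, hs, hs'⟩ := exists_mem_cond p.primeCompl key
  exact fun h => hs (h hs')

omit [Module.Finite A B] in
/-- A prime minimal over a radical ideal is that ideal after inverting an element outside it. -/
theorem exists_smul_le [IsNoetherianRing A] {J : Ideal A} (hJ : J.IsRadical) {p : Ideal A}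
    (hp : p ∈ J.minimalPrimes) : ∃ e ∉ p, ∀ x ∈ p, e * x ∈ J := by
  classical
  have hfin : J.minimalPrimes.Finite := Ideal.finite_minimalPrimes_of_isNoetherianRing A J
  let S := hfin.toFinset.erase p
  have hpp : p.IsPrime := hp.1.1
  have hnle : ¬ S.inf id ≤ p := fun h => by
    obtain ⟨q, hq, hqp⟩ := (hpp.inf_le').1 h
    obtain ⟨hne, hq⟩ := Finset.mem_erase.1 hq
    rw [Set.Finite.mem_toFinset] at hq
    exact hne (le_antisymm hqp (hp.2 ⟨hq.1.1, hq.1.2⟩ hqp))
  obtain ⟨e, he, hep⟩ := SetLike.not_le_iff_exists.1 hnle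
  refine ⟨e, hep, fun x hx => ?_⟩
  rw [← hJ.radical, ← Ideal.sInf_minimalPrimes, Submodule.mem_sInf]
  intro q hq
  by_cases h : q = p
  · subst h; exact Ideal.mul_mem_left q _ hx
  · exact Ideal.mul_mem_right _ q (Submodule.mem_finsetInf.1 he q
      (Finset.mem_erase.2 ⟨h, hfin.mem_toFinset.2 hq⟩))

omit [Module.Finite A B] in
/-- Fibres of `A → B` over primes outside the conductor. -/
theorem isReduced_fiber_of_not_le (p : Ideal A) [p.IsPrime] (h : ¬ cond A B ≤ p) :
    IsReduced (p.ResidueField ⊗[A] B) := by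
  obtain ⟨s, hs, hsp⟩ := SetLike.not_le_iff_exists.1 h
  let κ := p.ResidueField
  have hs0 : algebraMap A κ s ≠ 0 := fun e => hsp (Ideal.algebraMap_residueField_eq_zero.1 e)
  have hsurj : Function.Surjective (algebraMap κ (κ ⊗[A] B)) := by
    intro z
    induction z with
    | zero => exact ⟨0, map_zero _⟩
    | add x y hx hy =>
      obtain ⟨u, rfl⟩ := hx
      obtain ⟨v, rfl⟩ := hy
      exact ⟨u + v, map_add _ _ _⟩
    | tmul k b =>
      obtain ⟨a, ha⟩ := mem_cond.1 hs b
      refine ⟨a • (k * (algebraMap A κ s)⁻¹), ?_⟩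
      rw [Algebra.TensorProduct.algebraMap_apply, Algebra.algebraMap_self, RingHom.id_apply,
        TensorProduct.smul_tmul, ← Algebra.algebraMap_eq_smul_one, ha, ← Algebra.smul_def,
        ← TensorProduct.smul_tmul, Algebra.smul_def, mul_left_comm,
        mul_inv_cancel₀ hs0, mul_one]
  refine ⟨fun z hz => ?_⟩
  obtain ⟨k, rfl⟩ := hsurj z
  by_contra hne
  have hk : IsUnit k := isUnit_iff_ne_zero.2 (by rintro rfl; exact hne (map_zero _))
  haveI : Subsingleton (κ ⊗[A] B) := by
    obtain ⟨n, hn⟩ := hz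
    have := (hk.map (algebraMap κ (κ ⊗[A] B))).pow n
    rw [hn] at this
    exact subsingleton_of_zero_eq_one (isUnit_zero_iff.1 this)
  exact hne (Subsingleton.elim _ _)

omit [Module.Finite A B] in
/-- Fibres of `A → B` over maximal primes minimal over the conductor. -/
theorem isReduced_fiber_of_le [IsNoetherianRing A] [IsReduced B]
    (hinj : Function.Injective (algebraMap A B)) (hA : HTop.IsSeminormalRing A)
    (p : Ideal A) [p.IsMaximal] (hp : p ∈ (cond A B).minimalPrimes) :
    IsReduced (p.ResidueField ⊗[A] B) := by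
  obtain ⟨e, hep, he⟩ := exists_smul_le (isRadical_cond hinj hA) hp
  have hR := isRadical_map hinj hA (isRadical_cond hinj hA) le_rfl
  have hrad : (p.map (algebraMap A B)).IsRadical := by
    refine (Ideal.isRadical_iff_pow_one_lt 2 one_lt_two).2 fun y hy => ?_
    have hey : algebraMap A B e * y ∈ (cond A B).map (algebraMap A B) := by
      refine hR ⟨2, ?_⟩
      have h1 : ∀ z ∈ p.map (algebraMap A B), algebraMap A B e * z ∈ (cond A B).map (algebraMap A B) := by
        intro z hz
        induction hz using Submodule.span_induction with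
        | mem x hx =>
          obtain ⟨x, hx, rfl⟩ := hx
          rw [← map_mul]
          exact Ideal.mem_map_of_mem _ (he x hx)
        | zero => rw [mul_zero]; exact zero_mem _
        | add x y _ _ h h' => rw [mul_add]; exact add_mem h h'
        | smul a x _ h => rw [smul_eq_mul, mul_left_comm]; exact Ideal.mul_mem_left _ _ h
      rw [mul_pow, sq (algebraMap A B e), mul_assoc]
      exact Ideal.mul_mem_left _ _ (h1 _ hy)
    obtain ⟨u, w, hw, huw⟩ := Ideal.IsMaximal.exists_inv ‹p.IsMaximal› hep
    have hy' : y = algebraMap A B u * (algebraMap A B e * y) + algebraMap A B w * y := by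
      rw [← mul_assoc, ← add_mul, ← map_mul, ← map_add, huw, map_one, one_mul]
    rw [hy']
    exact add_mem (Ideal.mul_mem_left _ _ (Ideal.map_mono hp.1.2 hey))
      (Ideal.mul_mem_right _ _ (Ideal.mem_map_of_mem _ hw))
  haveI : IsReduced (B ⧸ p.map (algebraMap A B)) := (Ideal.isRadical_iff_quotient_reduced _).1 hrad
  let φ : B →+* p.ResidueField ⊗[A] B := Algebra.TensorProduct.includeRight.toRingHom
  have hsurj : Function.Surjective φ := by
    intro z
    induction z with
    | zero => exact ⟨0, map_zero _⟩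
    | add x y hx hy =>
      obtain ⟨u, rfl⟩ := hx
      obtain ⟨v, rfl⟩ := hy
      exact ⟨u + v, map_add _ _ _⟩
    | tmul k b =>
      obtain ⟨a, rfl⟩ := Ideal.algebraMap_residueField_surjective p k
      exact ⟨a • b, by
        change (1 : p.ResidueField) ⊗ₜ[A] (a • b) = _
        rw [TensorProduct.tmul_smul, TensorProduct.smul_tmul', ← Algebra.algebraMap_eq_smul_one]⟩
  have hker : p.map (algebraMap A B) ≤ RingHom.ker φ := by
    rw [Ideal.map_le_iff_le_comap]
    intro x hx
    rw [Ideal.mem_comap, RingHom.mem_ker]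
    change (1 : p.ResidueField) ⊗ₜ[A] algebraMap A B x = 0
    rw [Algebra.algebraMap_eq_smul_one, TensorProduct.tmul_smul, TensorProduct.smul_tmul',
      ← Algebra.algebraMap_eq_smul_one, Ideal.algebraMap_residueField_eq_zero.2 hx, TensorProduct.zero_tmul]
  -- an inverse map
  let ψ₀ : p.ResidueField →ₐ[A] B ⧸ p.map (algebraMap A B) :=
    (Ideal.Quotient.liftₐ p (Algebra.ofId A _) fun x hx => by
      change algebraMap A (B ⧸ p.map (algebraMap A B)) x = 0
      rw [IsScalarTower.algebraMap_apply A B (B ⧸ p.map (algebraMap A B)), Ideal.Quotient.algebraMap_eq]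
      exact Ideal.Quotient.eq_zero_iff_mem.2 (Ideal.mem_map_of_mem _ hx)).comp
    (AlgEquiv.ofBijective (IsScalarTower.toAlgHom A (A ⧸ p) p.ResidueField)
      (Ideal.bijective_algebraMap_quotient_residueField p)).symm.toAlgHom
  let ψ : p.ResidueField ⊗[A] B →ₐ[A] B ⧸ p.map (algebraMap A B) :=
    Algebra.TensorProduct.productMap ψ₀ (Ideal.Quotient.mkₐ A _)
  refine isReduced_of_injective ψ fun x y hxy => ?_
  obtain ⟨b, rfl⟩ := hsurj x
  obtain ⟨c, rfl⟩ := hsurj y
  have hψ : ∀ b : B, ψ (φ b) = Ideal.Quotient.mk _ b := fun b => by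
    change Algebra.TensorProduct.productMap ψ₀ _ (1 ⊗ₜ b) = _
    rw [Algebra.TensorProduct.productMap_apply_tmul, map_one, one_mul]
    rfl
  rw [hψ, hψ, Ideal.Quotient.eq] at hxy
  exact sub_eq_zero.1 ((map_sub φ b c).symm.trans (hker hxy))

end GrothLib.SemiCond2
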