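import Groth.Agent.Lib.SemiCond2.Ring
import Groth.Agent.Lib.SN25.Scheme
import Groth.Agent.Lib.RegLoc.Normal
import Groth.Agent.Lib.CMFree.Regular
import Groth.Agent.Lib.CurveLocus.Basic
import Groth.Agent.Lib.Pushout6.LocalCrit
import Groth.Prelude.Def_Pi1

/-!
# Normalisation of a seminormal curve: affine charts
-/

set_option autoImplicit false
set_option linter.all false
set_option backward.isDefEq.respectTransparency false

universe u

open CategoryTheory Limits AlgebraicGeometry TopologicalSpace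

namespace GrothLib.SemiCond2

variable {C Cn : Scheme.{u}} (ν : Cn ⟶ C)

theorem isIso_app_of_le {U : C.Opens} [IsIso (ν ∣_ U)] (U' : C.Opens) (h : U' ≤ U) : IsIso (ν.app U') := by
  obtain ⟨V, rfl⟩ : ∃ V, U.ι ''ᵁ V = U' := ⟨U.ι ⁻¹ᵁ U', by
    rw [Scheme.Hom.image_preimage_eq_opensRange_inf, Scheme.Opens.opensRange_ι, inf_eq_right.2 h]⟩
  have h' : IsIso ((ν ∣_ U).app V) := inferInstance
  rw [morphismRestrict_app] at h'
  refine @IsIso.of_isIso_comp_right _ _ _ _ _ _ _ ?_ h'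
  infer_instance

/-- A dense open preimage detects vanishing of sections. -/
theorem eq_zero_of_basicOpen [IsReduced Cn] {U : C.Opens} [IsIso (ν ∣_ U)]
    (hdn : Dense ((ν ⁻¹ᵁ U : Cn.Opens) : Set Cn)) {W O : C.Opens} (hOW : O ≤ W)
    (hO : ∀ O' : C.Opens, O' ≤ W → O' ≤ U → O' ⊓ O = ⊥ → O' = ⊥)
    (y : Γ(Cn, ν ⁻¹ᵁ W)) (hy : Cn.basicOpen y ⊓ ν ⁻¹ᵁ O = ⊥) : y = 0 := by
  refine eq_zero_of_basicOpen_eq_bot y ?_
  by_contra hne
  obtain ⟨c, hc⟩ : ((Cn.basicOpen y : Cn.Opens) : Set Cn).Nonempty := by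
    rw [Set.nonempty_iff_ne_empty]
    exact fun he => hne (Opens.ext he)
  obtain ⟨c₁, hc₁, hcU⟩ := hdn.inter_open_nonempty _ (Cn.basicOpen y).2 ⟨c, hc⟩
  let φ := (ν ∣_ U) ≫ U.ι
  let O' := φ ''ᵁ ((ν ⁻¹ᵁ U).ι ⁻¹ᵁ Cn.basicOpen y)
  have hφ : ∀ q, φ q = ν ((ν ⁻¹ᵁ U).ι q) := fun q => by
    change ((ν ∣_ U) ≫ U.ι).base q = _
    rw [morphismRestrict_ι]
    rfl
  have hW : O' ≤ W := by
    rintro _ ⟨q, hq, rfl⟩
    change φ q ∈ W
    rw [hφ]
    exact Cn.basicOpen_le y hq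
  have hU : O' ≤ U := by
    rintro _ ⟨q, hq, rfl⟩
    exact ((ν ∣_ U) q).2
  have hbot : O' ⊓ O = ⊥ := by
    rw [eq_bot_iff]
    rintro _ ⟨⟨q, hq, rfl⟩, h⟩
    change φ q ∈ O at h
    rw [hφ] at h
    have : (ν ⁻¹ᵁ U).ι q ∈ Cn.basicOpen y ⊓ ν ⁻¹ᵁ O := ⟨hq, h⟩
    rw [hy] at this
    exact this.elim
  have hmem : φ ⟨c₁, hcU⟩ ∈ O' := ⟨⟨c₁, hcU⟩, hc₁, rfl⟩
  rw [hO O' hW hU hbot] at hmem
  exact hmem.elim

variable {W : C.Opens}

/-- Facts about the normalisation over an affine open of a curve. -/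
structure ChartFacts (hW : IsAffineOpen W) : Prop where
  inj : Function.Injective (ν.app W)
  finite : (ν.app W).hom.Finite
  redB : IsReduced Γ(Cn, ν ⁻¹ᵁ W)
  sn : HTop.IsSeminormalRing Γ(C, W)
  noeth : IsNoetherianRing Γ(C, W)
  dim : Ring.KrullDimLE 1 Γ(C, W)
  loc : ∃ t : Γ(C, W), (∀ q ∈ minimalPrimes Γ(C, W), t ∉ q) ∧
    (∀ y : Γ(Cn, ν ⁻¹ᵁ W), ν.app W t * y = 0 → y = 0) ∧
    ∀ b : Γ(Cn, ν ⁻¹ᵁ W), ∃ n : ℕ, ∃ a, ν.app W a = ν.app W (t ^ n) * b

theorem chartFacts {κ : Type u} [Field κ] (g : C ⟶ Spec (CommRingCat.of κ)) [LocallyOfFiniteType g]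
    [IsReduced C] (hdimC : ∀ W ∈ irreducibleComponents (C : Type u), topologicalKrullDim W = 1)
    (hsn : HTop.IsSeminormal C) [IsFinite ν] (hn : Pi1.IsNormalScheme Cn)
    (hbir : ∃ U : C.Opens, Dense (U : Set C) ∧ Dense ((ν ⁻¹ᵁ U : Cn.Opens) : Set Cn) ∧ IsIso (ν ∣_ U))
    (hW : IsAffineOpen W) : ChartFacts ν hW := by
  obtain ⟨U, hUd, hUn, hiso⟩ := hbir
  haveI := LocallyOfFiniteType.isLocallyNoetherian g
  haveI hAn : IsNoetherianRing Γ(C, W) := IsLocallyNoetherian.component_noetherian ⟨W, hW⟩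
  haveI : IsReduced Cn := by
    haveI : ∀ x : Cn, IsReduced (Cn.presheaf.stalk x) := fun x => by
      haveI := (hn x).1; infer_instance
    exact isReduced_of_isReduced_stalk Cn
  have hdim : Ring.KrullDimLE 1 Γ(C, W) := by
    rw [Ring.krullDimLE_iff, Nat.cast_one, ← PrimeSpectrum.topologicalKrullDim_eq_ringKrullDim Γ(C, W)]
    exact (hW.fromSpec.isOpenEmbedding.isInducing.topologicalKrullDim_le).trans
      (CurveLocus.topologicalKrullDim_le_of_components 1 fun Z hZ => (hdimC Z hZ).le)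
  -- an element cutting out a dense open subset of `U`
  let V : Set (PrimeSpectrum Γ(C, W)) := hW.fromSpec ⁻¹' (U : Set C)
  have hVo : IsOpen V := U.2.preimage hW.fromSpec.continuous
  have hVd : Dense V := hUd.preimage hW.fromSpec.isOpenEmbedding.isOpenMap
  have hIq : ∀ q ∈ minimalPrimes Γ(C, W), ¬ PrimeSpectrum.vanishingIdeal Vᶜ ≤ q := by
    classical
    intro q hq hle
    haveI := hq.1.1
    have hfin : (minimalPrimes Γ(C, W)).Finite := minimalPrimes.finite_of_isNoetherianRing _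
    have hnle : ¬ (hfin.toFinset.erase q).inf id ≤ q := fun h => by
      obtain ⟨q', hq', hq'q⟩ := (hq.1.1.inf_le').1 h
      obtain ⟨hne, hq'⟩ := Finset.mem_erase.1 hq'
      rw [Set.Finite.mem_toFinset] at hq'
      exact hne (le_antisymm hq'q (hq.2 hq'.1 hq'q))
    obtain ⟨f, hf, hfq⟩ := SetLike.not_le_iff_exists.1 hnle
    obtain ⟨r, hr, hrV⟩ := hVd.inter_open_nonempty _ (PrimeSpectrum.isOpen_basicOpen (a := f))
      ⟨⟨q, hq.1.1⟩, hfq⟩
    obtain ⟨q', hq', hq'r⟩ := Ideal.exists_minimalPrimes_le (bot_le : (⊥ : Ideal Γ(C, W)) ≤ r.asIdeal)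
    have hqq : q' = q := by
      by_contra hne
      exact hr (hq'r (Submodule.mem_finsetInf.1 hf q' (Finset.mem_erase.2 ⟨hne, hfin.mem_toFinset.2 hq'⟩)))
    have : r ∈ Vᶜ := by
      rw [← (hVo.isClosed_compl.closure_eq), ← PrimeSpectrum.zeroLocus_vanishingIdeal_eq_closure]
      exact hle.trans (hqq ▸ hq'r)
    exact this hrV
  obtain ⟨t, htI, htq⟩ : ∃ t ∈ PrimeSpectrum.vanishingIdeal Vᶜ, ∀ q ∈ minimalPrimes Γ(C, W), t ∉ q := by
    classical
    have hfin : (minimalPrimes Γ(C, W)).Finite := minimalPrimes.finite_of_isNoetherianRing _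
    by_contra hcon
    push Not at hcon
    have hsub : ((PrimeSpectrum.vanishingIdeal Vᶜ : Ideal Γ(C, W)) : Set Γ(C, W)) ⊆
        ⋃ q ∈ (hfin.toFinset : Set (Ideal Γ(C, W))), (q : Set Γ(C, W)) := fun t ht => by
      obtain ⟨q, hq, htq⟩ := hcon t ht
      exact Set.mem_iUnion₂.2 ⟨q, hfin.mem_toFinset.2 hq, htq⟩
    obtain ⟨q, hq, hle⟩ := (Ideal.subset_union_prime (f := fun q => q) ⊥ ⊥
      (fun q hq _ _ => (hfin.mem_toFinset.1 hq).1.1)).1 hsub
    exact hIq q (hfin.mem_toFinset.1 hq) hle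
  let O := C.basicOpen t
  have hOW : O ≤ W := C.basicOpen_le t
  have hOU : O ≤ U := by
    intro x hx
    have hxW : x ∈ W := hOW hx
    obtain ⟨p, rfl⟩ : x ∈ Set.range hW.fromSpec := by rw [hW.range_fromSpec]; exact hxW
    have hp : t ∉ p.asIdeal := by
      have : p ∈ hW.fromSpec ⁻¹ᵁ C.basicOpen t := hx
      rwa [hW.fromSpec_preimage_basicOpen, PrimeSpectrum.mem_basicOpen] at this
    by_contra hpU
    exact hp ((PrimeSpectrum.mem_vanishingIdeal _ _).1 htI p hpU)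
  have hO : ∀ O' : C.Opens, O' ≤ W → O' ≤ U → O' ⊓ O = ⊥ → O' = ⊥ := by
    intro O' hW' _ hbot
    rw [eq_bot_iff]
    intro x hx
    obtain ⟨p, rfl⟩ : x ∈ Set.range hW.fromSpec := by rw [hW.range_fromSpec]; exact hW' hx
    obtain ⟨q, hq, hqp⟩ := Ideal.exists_minimalPrimes_le (bot_le : (⊥ : Ideal Γ(C, W)) ≤ p.asIdeal)
    let q' : PrimeSpectrum Γ(C, W) := ⟨q, hq.1.1⟩
    have hsp : hW.fromSpec q' ⤳ hW.fromSpec p :=
      ((PrimeSpectrum.le_iff_specializes q' p).1 hqp).map hW.fromSpec.continuous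
    have h1 : hW.fromSpec q' ∈ O' := hsp.mem_open O'.2 hx
    have h2 : hW.fromSpec q' ∈ O := by
      change q' ∈ hW.fromSpec ⁻¹ᵁ C.basicOpen t
      rw [hW.fromSpec_preimage_basicOpen, PrimeSpectrum.mem_basicOpen]
      exact htq q hq
    have : hW.fromSpec q' ∈ O' ⊓ O := ⟨h1, h2⟩
    rw [hbot] at this
    exact this.elim
  have hnzd : ∀ y : Γ(Cn, ν ⁻¹ᵁ W), ν.app W t * y = 0 → y = 0 := fun y hy => by
    refine eq_zero_of_basicOpen ν hUn hOW hO y ?_
    rw [show ν ⁻¹ᵁ O = Cn.basicOpen (ν.app W t) from Scheme.preimage_basicOpen ν t, inf_comm,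
      ← Scheme.basicOpen_mul, hy, Scheme.basicOpen_zero]
  haveI : IsReduced Γ(C, W) := inferInstance
  have htA : ∀ (n : ℕ) (a : Γ(C, W)), t ^ n * a = 0 → a = 0 := fun n a ha => by
    refine (IsReduced.eq_zero a ?_)
    rw [← mem_nilradical, nilradical, Ideal.radical_eq_sInf, Submodule.mem_sInf]
    rintro p ⟨-, hp⟩
    obtain ⟨q, hq, hqp⟩ := Ideal.exists_minimalPrimes_le (bot_le : (⊥ : Ideal Γ(C, W)) ≤ p)
    exact hqp ((hq.1.1.mem_or_mem (ha ▸ zero_mem q)).resolve_left fun h =>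
      htq q hq (hq.1.1.mem_of_pow_mem n h))
  haveI : IsIso (ν.app O) := isIso_app_of_le ν O hOU
  have hbij : Function.Bijective (ν.app O) := ConcreteCategory.bijective_of_isIso (ν.app O)
  haveI := hW.isLocalization_basicOpen t
  haveI := (hW.preimage ν).isLocalization_basicOpen (ν.app W t)
  have hnat : ∀ a : Γ(C, W), ν.app O (algebraMap Γ(C, W) Γ(C, O) a) =
      Cn.presheaf.map (homOfLE ((Scheme.preimage_basicOpen ν t).le.trans (Cn.basicOpen_le _))).op (ν.app W a) :=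
    fun a => by
      change (C.presheaf.map _ ≫ ν.app O) a = (ν.app W ≫ Cn.presheaf.map _) a
      rw [Scheme.Hom.naturality]
      rfl
  refine ⟨?_, ?_, inferInstance, SN25.isSeminormal_affine hsn hW, hAn, hdim, t, htq, hnzd, ?_⟩
  · rw [injective_iff_map_eq_zero]
    intro a ha
    have h1 : algebraMap Γ(C, W) Γ(C, O) a = 0 := hbij.1 (by rw [hnat, ha, map_zero, map_zero])
    obtain ⟨⟨_, n, rfl⟩, hn'⟩ := (IsLocalization.map_eq_zero_iff (Submonoid.powers t) Γ(C, O) a).1 h1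
    exact htA n a hn'
  · exact IsFinite.finite_app ν W hW
  · intro b
    let e := Scheme.preimage_basicOpen ν t
    let r : Γ(Cn, ν ⁻¹ᵁ W) ⟶ Γ(Cn, ν ⁻¹ᵁ O) :=
      Cn.presheaf.map (homOfLE (e.le.trans (Cn.basicOpen_le _))).op
    obtain ⟨z, hz⟩ := hbij.2 (r b)
    obtain ⟨a, ⟨_, n, rfl⟩, rfl⟩ := IsLocalization.exists_mk'_eq (Submonoid.powers t) z
    refine ⟨n, a, ?_⟩
    have h1 : r (ν.app W a) = r (ν.app W (t ^ n) * b) := by
      rw [map_mul, ← hnat, ← hnat, ← IsLocalization.mk'_spec (Γ(C, O)) a (⟨t ^ n, n, rfl⟩ : Submonoid.powers t), map_mul, hz,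
        mul_comm]
    refine sub_eq_zero.1 (eq_zero_of_basicOpen ν hUn hOW hO _ ?_)
    generalize hd : ν.app W a - ν.app W (t ^ n) * b = d
    have h2 : r d = 0 := by rw [← hd, map_sub, h1, sub_self]
    have h3 := Scheme.basicOpen_res Cn d (homOfLE (e.le.trans (Cn.basicOpen_le _))).op
    rw [show Cn.presheaf.map _ d = 0 from h2, Scheme.basicOpen_zero] at h3
    rw [inf_comm]
    exact h3.symm

variable {ν}

theorem ChartFacts.not_cond_le (hW : IsAffineOpen W) (h : ChartFacts ν hW) (p : Ideal Γ(C, W)) [p.IsPrime]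
    [IsRegularLocalRing (Localization.AtPrime p)] :
    letI := (ν.app W).hom.toAlgebra
    ¬ cond Γ(C, W) Γ(Cn, ν ⁻¹ᵁ W) ≤ p := by
  letI := (ν.app W).hom.toAlgebra
  haveI : Module.Finite Γ(C, W) Γ(Cn, ν ⁻¹ᵁ W) := h.finite
  haveI := h.redB
  haveI := CMFree.isDomain_of_isRegularLocalRing (Localization.AtPrime p)
  haveI := RegLoc.isIntegrallyClosed_of_isRegularLocalRing (Localization.AtPrime p)
  obtain ⟨t, -, ht1, ht2⟩ := h.loc
  exact SemiCond2.not_cond_le h.inj t ht1 (fun b => ht2 b) p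

theorem ChartFacts.isReduced_fiber (hW : IsAffineOpen W) (h : ChartFacts ν hW) (p : PrimeSpectrum Γ(C, W)) :
    letI := (ν.app W).hom.toAlgebra
    IsReduced (p.asIdeal.Fiber Γ(Cn, ν ⁻¹ᵁ W)) := by
  letI := (ν.app W).hom.toAlgebra
  haveI : Module.Finite Γ(C, W) Γ(Cn, ν ⁻¹ᵁ W) := h.finite
  haveI := h.redB
  haveI := h.noeth
  haveI := h.dim
  by_cases hp : cond Γ(C, W) Γ(Cn, ν ⁻¹ᵁ W) ≤ p.asIdeal
  · obtain ⟨t, htq, -, ht⟩ := h.loc
    obtain ⟨_, ⟨n, rfl⟩, hc⟩ := exists_mem_cond (Submonoid.powers t) fun b => by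
      obtain ⟨n, a, ha⟩ := ht b
      exact ⟨t ^ n, ⟨n, rfl⟩, a, ha⟩
    have hnm : p.asIdeal ∉ minimalPrimes Γ(C, W) := fun hm => htq _ hm (p.2.mem_of_pow_mem n (hp hc))
    haveI hmax : p.asIdeal.IsMaximal := ((Ring.krullDimLE_one_iff.1 h.dim) _ p.2).resolve_left hnm
    refine isReduced_fiber_of_le h.inj h.sn p.asIdeal ⟨⟨p.2, hp⟩, fun q hq hqp => ?_⟩
    rcases (Ring.krullDimLE_one_iff.1 h.dim) q hq.1 with hm | hm
    · exact absurd (hq.2 hc) fun hh => htq q hm (hq.1.mem_of_pow_mem n hh)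
    · exact (hm.eq_of_le hmax.ne_top hqp).ge
  · exact isReduced_fiber_of_not_le p.asIdeal hp

theorem isReduced_fiber_fromSpec [IsAffineHom ν] (hW : IsAffineOpen W) (h : ChartFacts ν hW)
    (p : PrimeSpectrum Γ(C, W)) : IsReduced (ν.fiber (hW.fromSpec p)) := by
  letI := (ν.app W).hom.toAlgebra
  have hpb : IsPullback (hW.preimage ν).fromSpec (Spec.map (ν.app W)) ν hW.fromSpec := by
    refine IsOpenImmersion.isPullback _ _ _ _ ?_ ?_ |>.flip
    · rw [Scheme.Hom.app_eq_appLE, hW.SpecMap_appLE_fromSpec ν (hW.preimage ν)]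
    · rw [hW.opensRange_fromSpec, (hW.preimage ν).opensRange_fromSpec]
  have hq := isPullback_fiberToSpecResidueField_of_isPullback hpb p
  haveI := hq.isIso_fst_of_isIso
  haveI := h.isReduced_fiber hW p
  let e : (Spec.map (ν.app W)).fiber p ≅ Spec (CommRingCat.of (p.asIdeal.Fiber Γ(Cn, ν ⁻¹ᵁ W))) :=
    asIso (Spec.fiberToSpecResidueFieldIso Γ(C, W) Γ(Cn, ν ⁻¹ᵁ W) p).hom.left
  exact isReduced_of_isOpenImmersion
    (((asIso (pullback.map _ _ _ _ (hW.preimage ν).fromSpec (Spec.map (hW.fromSpec.residueFieldMap p))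
      hW.fromSpec hpb.w.symm _)).symm ≪≫ e.symm.symm).hom)

theorem nonempty_localData [IsAffineHom ν] (hW : IsAffineOpen W) (h : ChartFacts ν hW) {D : Scheme.{u}}
    (d : D ⟶ C) [IsClosedImmersion d] [IsReduced D]
    (hd : Set.range d = {x : C | ¬ IsRegularLocalRing (C.presheaf.stalk x)}) (x : C) (hx : x ∈ W) :
    Nonempty (Pushout6.LocalData (pullback.fst ν d) (pullback.snd ν d) ν d x) := by
  letI := (ν.app W).hom.toAlgebra
  haveI : Module.Finite Γ(C, W) Γ(Cn, ν ⁻¹ᵁ W) := h.finite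
  haveI := h.redB
  let f := (d.app W).hom
  have hf : Function.Surjective f := d.app_surjective W hW
  let J := RingHom.ker f
  have hJr : J.IsRadical := by
    intro a ha
    obtain ⟨n, hn⟩ := ha
    rw [RingHom.mem_ker] at hn ⊢
    exact IsReduced.eq_zero _ ⟨n, by rwa [← map_pow]⟩
  have hJc : J ≤ cond Γ(C, W) Γ(Cn, ν ⁻¹ᵁ W) := by
    rw [← (isRadical_cond h.inj h.sn).radical, Ideal.radical_eq_sInf]
    refine le_sInf fun p ⟨hcp, hp⟩ => ?_
    haveI := hp
    let p' : PrimeSpectrum Γ(C, W) := ⟨p, hp⟩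
    by_cases hy : hW.fromSpec p' ∈ Set.range d
    · obtain ⟨y, hy⟩ := hy
      have hyW : y ∈ d ⁻¹ᵁ W := by
        change d y ∈ W
        rw [hy]
        exact hW.range_fromSpec.le ⟨p', rfl⟩
      obtain ⟨q, rfl⟩ : y ∈ Set.range (hW.preimage d).fromSpec := by
        rw [(hW.preimage d).range_fromSpec]; exact hyW
      have e : hW.fromSpec ((Spec.map (d.app W)) q) = hW.fromSpec p' := by
        rw [← hy, ← Scheme.Hom.comp_apply, Scheme.Hom.app_eq_appLE,
          hW.SpecMap_appLE_fromSpec d (hW.preimage d)]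
        rfl
      have e' : (Spec.map (d.app W)) q = p' := hW.fromSpec.isOpenEmbedding.injective e
      intro a ha
      change a ∈ p'.asIdeal
      rw [← e']
      change f a ∈ q.asIdeal
      rw [RingHom.mem_ker.1 ha]
      exact zero_mem _
    · exfalso
      have hreg : IsRegularLocalRing (C.presheaf.stalk (hW.fromSpec p')) := by
        rw [hd, Set.mem_setOf_eq, not_not] at hy; exact hy
      letI := TopCat.Presheaf.algebra_section_stalk C.presheaf ⟨hW.fromSpec p', hW.range_fromSpec.le ⟨p', rfl⟩⟩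
      haveI := hW.isLocalization_stalk' p' (hW.range_fromSpec.le ⟨p', rfl⟩)
      haveI : IsRegularLocalRing (Localization.AtPrime p) :=
        IsRegularLocalRing.of_ringEquiv (R := C.presheaf.stalk (hW.fromSpec p'))
          (IsLocalization.algEquiv p.primeCompl _ _).toRingEquiv
      exact h.not_cond_le hW p hcp
  let gν := algebraMap Γ(C, W) Γ(Cn, ν ⁻¹ᵁ W)
  let JB := J.map gν
  let p₀ : Γ(Cn, ν ⁻¹ᵁ W) →+* Γ(Cn, ν ⁻¹ᵁ W) ⧸ JB := Ideal.Quotient.mk JB
  let q₀ : Γ(D, d ⁻¹ᵁ W) →+* Γ(Cn, ν ⁻¹ᵁ W) ⧸ JB := f.liftOfSurjective hf ⟨p₀.comp gν, fun a ha => by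
    rw [RingHom.mem_ker, RingHom.comp_apply]
    exact Ideal.Quotient.eq_zero_iff_mem.2 (Ideal.mem_map_of_mem _ ha)⟩
  have hq₀ : ∀ a, q₀ (f a) = p₀ (gν a) := fun a =>
    f.liftOfRightInverse_comp_apply (Function.surjInv hf) (Function.rightInverse_surjInv hf) _ a
  let C₀ := CommRingCat.of (Γ(Cn, ν ⁻¹ᵁ W) ⧸ JB)
  let pc : Γ(Cn, ν ⁻¹ᵁ W) ⟶ C₀ := CommRingCat.ofHom p₀
  let qc : Γ(D, d ⁻¹ᵁ W) ⟶ C₀ := CommRingCat.ofHom q₀
  have hw : ν.app W ≫ pc = d.app W ≫ qc := CommRingCat.hom_ext (RingHom.ext fun a => (hq₀ a).symm)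
  have hpo : IsPushout (ν.app W) (d.app W) pc qc := by
    refine ⟨⟨hw⟩, ⟨PushoutCocone.IsColimit.mk _
      (fun s => CommRingCat.ofHom (Ideal.Quotient.lift JB s.inl.hom ?_)) (fun s => ?_) (fun s => ?_) ?_⟩⟩
    · intro b hb
      have : JB ≤ RingHom.ker s.inl.hom := Ideal.map_le_iff_le_comap.2 fun a ha => by
        rw [Ideal.mem_comap, RingHom.mem_ker]
        have := congrArg (fun φ => φ.hom a) s.condition
        simp only [CommRingCat.hom_comp, RingHom.comp_apply] at this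
        exact this.trans (by rw [show (d.app W).hom a = 0 from ha, map_zero])
      exact this hb
    · refine CommRingCat.hom_ext (RingHom.ext fun b => ?_)
      rfl
    · refine CommRingCat.hom_ext (RingHom.ext fun y => ?_)
      obtain ⟨a, rfl⟩ := hf y
      have := congrArg (fun φ => φ.hom a) s.condition
      simp only [CommRingCat.hom_comp, RingHom.comp_apply] at this
      simp only [CommRingCat.hom_comp, RingHom.comp_apply, CommRingCat.hom_ofHom, qc]
      erw [hq₀]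
      exact this
    · intro s m h1 h2
      refine CommRingCat.hom_ext (Ideal.Quotient.ringHom_ext (RingHom.ext fun b => ?_))
      have := congrArg (fun φ => φ.hom b) h1
      exact this
  let u := (hW.preimage ν).fromSpec
  let v := (hW.preimage d).fromSpec
  have ha : u ≫ ν = Spec.map (ν.app W) ≫ hW.fromSpec := by
    rw [Scheme.Hom.app_eq_appLE, hW.SpecMap_appLE_fromSpec ν (hW.preimage ν)]
  have hb : v ≫ d = Spec.map (d.app W) ≫ hW.fromSpec := by
    rw [Scheme.Hom.app_eq_appLE, hW.SpecMap_appLE_fromSpec d (hW.preimage d)]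
  have hpb : IsPullback (Spec.map pc) (Spec.map qc) (Spec.map (ν.app W)) (Spec.map (d.app W)) :=
    isPullback_SpecMap_of_isPushout _ _ _ _ hpo
  let m := pullback.map (Spec.map (ν.app W)) (Spec.map (d.app W)) ν d u v hW.fromSpec ha.symm hb.symm
  let z := hpb.isoPullback.hom ≫ m
  have hzr : Set.range z = Set.range m := by
    rw [show (z : Spec C₀ → (Limits.pullback ν d : Scheme)) = m ∘ hpb.isoPullback.hom from rfl,
      Set.range_comp, (Set.range_eq_univ.2 hpb.isoPullback.hom.surjective : Set.range hpb.isoPullback.hom = _), Set.image_univ]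
  refine ⟨{
    P₀ := Γ(C, W), B₀ := Γ(D, d ⁻¹ᵁ W), A₀ := Γ(Cn, ν ⁻¹ᵁ W), C₀ := C₀
    f₀ := d.app W, g₀ := ν.app W, q₀ := qc, p₀ := pc
    sq := ?_
    u := u, v := v, z := z, w := hW.fromSpec
    openU := inferInstance, openV := inferInstance, openZ := inferInstance, openW := inferInstance
    ha := ha, hb := hb, hi := ?_, hj := ?_, hu := ?_, hv := ?_, hz := ?_, hx := ?_ }⟩
  · refine ⟨congrArg CommRingCat.Hom.hom hw.symm, fun a _ h2 => h.inj (h2.trans (map_zero _).symm),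
      fun b a hba => ?_, Ideal.Quotient.mk_surjective⟩
    obtain ⟨a', rfl⟩ := hf b
    rw [show qc.hom (f a') = p₀ (gν a') from hq₀ a'] at hba
    obtain ⟨j, hj, hj'⟩ := exists_of_mem_map h.inj hJr hJc (Ideal.Quotient.eq.1 hba)
    refine ⟨a' - j, ?_, ?_⟩
    · rw [map_sub, show (d.app W).hom j = 0 from hj, sub_zero]
    · change gν (a' - j) = a
      rw [map_sub, hj', sub_sub_cancel]
  · rw [show z = hpb.isoPullback.hom ≫ m from rfl, Category.assoc, pullback.lift_fst,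
      IsPullback.isoPullback_hom_fst_assoc]
  · rw [show z = hpb.isoPullback.hom ≫ m from rfl, Category.assoc, pullback.lift_snd,
      IsPullback.isoPullback_hom_snd_assoc]
  · rw [hW.range_fromSpec, (hW.preimage ν).range_fromSpec]; rfl
  · rw [hW.range_fromSpec, (hW.preimage d).range_fromSpec]; rfl
  · rw [hzr, Scheme.Pullback.range_map]
    refine subset_antisymm (fun q hq => ⟨hq, ?_⟩) Set.inter_subset_left
    change pullback.snd ν d q ∈ Set.range v
    rw [(hW.preimage d).range_fromSpec]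
    have hq' : pullback.fst ν d q ∈ ν ⁻¹ᵁ W := by
      have : pullback.fst ν d q ∈ Set.range u := hq
      rwa [(hW.preimage ν).range_fromSpec] at this
    change (pullback.snd ν d ≫ d) q ∈ W
    rw [← pullback.condition]
    exact hq'
  · rw [hW.range_fromSpec]; exact hx

end GrothLib.SemiCond2
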